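set_option autoImplicit false
namespace Cfsg.Agent.Lib.Helper6.TCD.J1X
noncomputable def QX (i : Nat) : Nat := Nat.land (Nat.shiftRight 0x210fb7d3cd20cf7fb38cb047534cace56a3d5ccf97a12982c21fc1600964787846dc6b341b6eb65ae8e45745adc649d3bc19306d77391902f5f219eef161ad19ac03ca55de7c2496cd489232c0fb03810f189090e1d50a6327360d6bf2ca09644170b806a3d15c053cbd373887ca12220522647631cc04c341bc48626b9d9aa846d1f866fd76ac4a6c521201985834bc91a2852b7946af28ae50e787e2ed5ab6688320e387f3d914dd091ed3e5e4caf1e0b8490b93845498e994700bb9ce2b506b8ce8ae278203436258751c1903860cea0523a45a6121974b8a93d2b016836937c4466558a9669b4600510540203d8c1b3fb64be0a7409ca05a540ec1220361cc909a12aa862a6132892e4d0325072117c0b042551494860470729c6e03648543e020a0006813029002016 (Nat.mul 9 (Nat.land i 511))) 511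
end Cfsg.Agent.Lib.Helper6.TCD.J1X
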