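import Cfsg.Agent.Lib.Helper6.TC13
import Cfsg.Agent.Lib.Helper6.TCD.J1a.Par
import Cfsg.Agent.Lib.Helper6.TCD.J1X.QX
set_option autoImplicit false
set_option maxRecDepth 1000000
set_option Elab.async false
open Cfsg.Agent.Lib.Helper6.TC
namespace Cfsg.Agent.Lib.Helper6.TCD.J1X
open Cfsg.Agent.Lib.Helper6.TCD.J1a
noncomputable def XW (p : Nat) : Nat := P2 (P0 (P1 (P0 p)))
noncomputable def XP (p : Nat) : Nat := QX (QX (QX (QX (QX (QX (QX (QX (QX (QX (QX (QX (QX (QX (QX (QX (QX (QX (QX p))))))))))))))))))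
end Cfsg.Agent.Lib.Helper6.TCD.J1X
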